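import Cfsg.Agent.H763.OC.Refl
import Cfsg.Agent.H763.OC.CuDef
import Cfsg.Agent.H993.OC.Eng
import Cfsg.Agent.H898.OC.Omk
import Cfsg.Agent.H464.ExtQO
import Cfsg.Agent.H477.HC.RowMinus

/-!
# The rows `PΩ` in defining characteristic, irreducible variant (S4891, OC layer)

`row_oodd`, `row_ominus`, `row_oplus` (`m ≥ 5`, or `m = 4` and `p ≠ 3`), from the cuspidal data `ExCuTwo`, `ExCuNeg`.
-/

set_option autoImplicit false

open Cfsg

namespace Cfsg.Agent.H763.OC

open Cfsg.Agent.Characters Cfsg.Agent.H477.HC Cfsg.Agent.H477.HC.CForm Cfsg.Agent.H53.HC Cfsg.Agent.H576.Ext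
  Cfsg.Agent.H464.ExtR3 Cfsg.Agent.H993.OC Module

universe u v w

section General

variable {K : Type u} [Field K] [Finite K] {V : Type v} [AddCommGroup V] [Module K V] [FiniteDimensional K V]
  {F : CForm K V}

omit [Finite K] [FiniteDimensional K V] in
theorem iota_eq (h : IsQuad F) (k : ℕ) : F.iota k = invT k := by
  have hσ : F.σ = RingHom.id K := RingHom.ext h.σ
  unfold CForm.iota
  rw [hσ]
  ext A i j
  rfl

/-- **the general row** -/
theorem row_gen {p : ℕ} [Fact p.Prime] [CharP K p] (hp2 : p ≠ 2) (h : IsQuad F) {k : ℕ} (hk0 : 0 < k)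
    (hk : 2 * k + 2 ≤ finrank K V) {c : GL (Fin k) K → ℂ} (hc : Cu p K k c) {S : Type w} [Group S] [Finite S]
    (D : SemiQ F (commutator F.iso) S)
    (hscal : ∀ (n : commutator F.iso) (a : Kˣ), (∀ v, ((n : F.iso) : V ≃ₗ[K] V) v = (a : K) • v) →
      c (Matrix.GeneralLinearGroup.scalar (Fin k) a) = c 1)
    {A : Subgroup (MulAut S)} (hA : IsPGroup p A) (hAut : A ≤ autG D) : ∃ θ, Wt p S A θ := by
  classical
  have h2 : (2 : K) ≠ 0 := two_ne_zero_of_char (p := p) hp2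
  have hfin : Finite V := Module.finite_of_finite K
  let _ : Fintype (F.Om k) := Fintype.ofFinite _
  obtain ⟨W₀, hW₀, -⟩ := exists_Om_perp h h2 (0 : V) hk
  obtain ⟨d, hd, hpd⟩ := hc.deg
  have hdual : c ∘ F.iota k ≠ c := by
    rw [iota_eq h]
    exact hc.dual
  have h1 : 1 < Nat.card (F.Om k) := by
    obtain ⟨W₁, hW₁, hopp⟩ := F.exists_opp hW₀
    have hne : W₀ ≠ W₁ := by
      rintro rfl
      rw [inf_eq_left.2 hW₀.1.le_perp] at hopp
      have h3 := hW₀.2
      rw [hopp, finrank_bot] at h3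
      omega
    exact Finite.one_lt_card_iff_nontrivial.2 ⟨⟨W₀, hW₀⟩, ⟨W₁, hW₁⟩, fun h => hne (congrArg Subtype.val h)⟩
  have hd0 : d ≠ 0 := fun h0 => hpd (h0 ▸ dvd_zero p)
  have h1' : 1 < Nat.card (F.Om k) * d := lt_of_lt_of_le h1 (Nat.le_mul_of_pos_right _ (Nat.pos_of_ne_zero hd0))
  exact hc_wt D (Core.isIrr_isClassFunction hc.irr) (isIrr_hc_commutator h h2 hk hc.irr hc.cusp hdual) hd hpd
    (H898.OC.omk F hp2 k ⟨W₀, hW₀⟩) h1' hc.rat hc.fix hscal hA hAut

omit [Finite K] [FiniteDimensional K V] in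
theorem exists_Q_ne (h : IsQuad F) [Nontrivial V] : ∃ v, F.Q v ≠ 0 := by
  by_contra hn
  push Not at hn
  obtain ⟨v, hv⟩ := exists_ne (0 : V)
  apply hv
  refine F.nondeg v fun u => ?_
  have h3 := h.Q_add v u
  rw [hn, hn, hn, zero_add, zero_add] at h3
  exact h3.symm

omit [Finite K] [FiniteDimensional K V] in
/-- the scalars are `± 1` -/
theorem scal_cases (h : IsQuad F) [Nontrivial V] (n : F.iso) (a : Kˣ)
    (ha : ∀ v, (n : V ≃ₗ[K] V) v = (a : K) • v) : a = 1 ∨ a = -1 := by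
  obtain ⟨v, hv⟩ := exists_Q_ne h
  have h3 := F.iso_Q n v
  rw [ha, h.Q_smul] at h3
  have h4 : (a : K) * a = 1 := mul_right_cancel₀ hv (h3.trans (one_mul _).symm)
  rcases mul_self_eq_one_iff.1 h4 with h5 | h5
  · exact Or.inl (Units.ext h5)
  · exact Or.inr (Units.ext h5)

omit [Finite K] [FiniteDimensional K V] in
theorem hscal_neg (h : IsQuad F) [Nontrivial V] {k : ℕ} {c : GL (Fin k) K → ℂ}
    (hneg : c (Matrix.GeneralLinearGroup.scalar (Fin k) (-1)) = c 1) (n : commutator F.iso) (a : Kˣ)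
    (ha : ∀ v, ((n : F.iso) : V ≃ₗ[K] V) v = (a : K) • v) :
    c (Matrix.GeneralLinearGroup.scalar (Fin k) a) = c 1 := by
  rcases scal_cases h n a ha with rfl | rfl
  · rw [map_one]
  · exact hneg

omit [Finite K] in
/-- in odd dimension `-1` is not in the commutator subgroup -/
theorem scal_odd (h : IsQuad F) (h2 : (2 : K) ≠ 0) [Nontrivial V] (ho : Odd (finrank K V)) (n : commutator F.iso)
    (a : Kˣ) (ha : ∀ v, ((n : F.iso) : V ≃ₗ[K] V) v = (a : K) • v) : a = 1 := by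
  rcases scal_cases h n a ha with h1 | h1
  · exact h1
  exfalso
  have h3 : LinearEquiv.det ((n : F.iso) : V ≃ₗ[K] V) = 1 := by
    have h4 : commutator F.iso ≤ (LinearEquiv.det.comp F.iso.subtype).ker :=
      Abelianization.commutator_subset_ker _
    exact MonoidHom.mem_ker.1 (h4 n.2)
  have h5 : ((n : F.iso) : V ≃ₗ[K] V) = LinearEquiv.neg K := by
    ext v
    rw [ha, h1]
    simp
  rw [h5] at h3
  have h6 := congrArg Units.val h3
  rw [LinearEquiv.coe_det] at h6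
  have h7 : ((LinearEquiv.neg K : V ≃ₗ[K] V) : V →ₗ[K] V) = (-1 : K) • LinearMap.id := by
    ext v
    simp
  rw [h7, LinearMap.det_smul, LinearMap.det_id, mul_one, ho.neg_one_pow, Units.val_one] at h6
  apply h2
  linear_combination -h6

end General

section Models

theorem odd_of_ne_two {p : ℕ} [Fact p.Prime] {K : Type u} [Field K] [Finite K] [CharP K p] (hp2 : p ≠ 2) :
    Odd (Nat.card K) := odd_of_two_ne (K := K) (p := p) hp2

/-- **`PΩ_{2m+1}`**, `m ≥ 3` -/
theorem row_oodd {p : ℕ} [Fact p.Prime] (hp2 : p ≠ 2) (F : Type) [Field F] [Fintype F] [CharP F p]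
    (hcu : ExCuTwo p F) (m : ℕ) (hm : 3 ≤ m) : OCRow p (POmega F (quadFormOdd m F)) := by
  classical
  have h2 : (2 : F) ≠ 0 := two_ne_zero_of_char (p := p) hp2
  obtain ⟨c, hc⟩ := hcu
  obtain ⟨D, hD⟩ := semiQ_odd hm h2
  have hfr : finrank F (Unit ⊕ (Fin m ⊕ Fin m) → F) = 2 * m + 1 := by
    rw [finrank_fintype_fun_eq_card, Fintype.card_sum, Fintype.card_sum, Fintype.card_unit, Fintype.card_fin]
    omega
  intro A hA
  refine row_gen hp2 (isQuad_odd F m h2) (k := 2) (by norm_num) (by rw [hfr]; omega) hc D (fun n a ha => ?_) hA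
    (fun α _ => mem_autG.2 (hD α))
  rw [scal_odd (isQuad_odd F m h2) h2 (by rw [hfr]; exact ⟨m, rfl⟩) n a ha, map_one]

/-- **`PΩ⁺_{2m}`**, `m ≥ 5` -/
theorem row_oplus {p : ℕ} [Fact p.Prime] (hp2 : p ≠ 2) (F : Type) [Field F] [Fintype F] [CharP F p]
    (hcu : ExCuNeg p F) (m : ℕ) (hm : 5 ≤ m) : OCRow p (POmega F (quadFormPlus m F)) := by
  classical
  have h2 : (2 : F) ≠ 0 := two_ne_zero_of_char (p := p) hp2
  obtain ⟨D, hD⟩ := semiQ_plus (K := F) hm
  have hfr : finrank F (Fin m ⊕ Fin m → F) = 2 * m := by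
    rw [finrank_fintype_fun_eq_card, Fintype.card_sum, Fintype.card_fin]
    omega
  have : Nonempty (Fin m) := ⟨⟨0, by omega⟩⟩
  intro A hA
  rcases hcu with ⟨c, hc, hneg⟩ | ⟨-, c, hc, hneg⟩
  · exact row_gen hp2 (isQuad_plus F m) (k := 2) (by norm_num) (by rw [hfr]; omega) hc D
      (hscal_neg (isQuad_plus F m) hneg) hA (fun α _ => mem_autG.2 (hD α))
  · exact row_gen hp2 (isQuad_plus F m) (k := 4) (by norm_num) (by rw [hfr]; omega) hc D
      (hscal_neg (isQuad_plus F m) hneg) hA (fun α _ => mem_autG.2 (hD α))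

/-- a `p`-subgroup lies in a subgroup of index `3` if `p ≥ 5` -/
theorem le_of_index_three {p : ℕ} [Fact p.Prime] (hp2 : p ≠ 2) (hp3 : p ≠ 3) {G : Type u} [Group G]
    {A H : Subgroup G} (hA : IsPGroup p A) (hH : H.index = 3) : A ≤ H := by
  have hp : p.Prime := Fact.out
  intro α hα
  obtain ⟨j, hj⟩ := hA ⟨α, hα⟩
  have hj' : α ^ p ^ j = 1 := congrArg Subtype.val hj
  obtain ⟨k, hk0, hk3, hk⟩ := Subgroup.exists_pow_mem_of_index_ne_zero (H := H) (by rw [hH]; norm_num) α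
  rw [hH] at hk3
  have hkp : Nat.Coprime k p := by
    refine (Nat.coprime_comm.1 ((Nat.Prime.coprime_iff_not_dvd hp).2 fun h => ?_))
    have := Nat.le_of_dvd hk0 h
    have := hp.two_le
    omega
  have hco : IsCoprime (k : ℤ) ((p ^ j : ℕ) : ℤ) := by
    rw [Nat.isCoprime_iff_coprime]
    exact Nat.Coprime.pow_right j hkp
  obtain ⟨a, b, hab⟩ := hco
  have h5 : α = (α ^ k) ^ a * (α ^ p ^ j) ^ b := by
    rw [← zpow_natCast, ← zpow_natCast, ← zpow_mul, ← zpow_mul, ← zpow_add, mul_comm (k : ℤ), mul_comm _ b, hab,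
      zpow_one]
  rw [h5, hj', one_zpow, mul_one]
  exact H.zpow_mem hk a

/-- **`PΩ⁺_8`**, `p ≥ 5` -/
theorem row_oplus_four {p : ℕ} [Fact p.Prime] (hp2 : p ≠ 2) (hp3 : p ≠ 3) (F : Type) [Field F] [Fintype F] [CharP F p]
    (hcu : ExCuNeg p F) : OCRow p (POmega F (quadFormPlus 4 F)) := by
  classical
  have h2 : (2 : F) ≠ 0 := two_ne_zero_of_char (p := p) hp2
  obtain ⟨D, hD⟩ := semiQ_plus_four (K := F)
  have hfr : finrank F (Fin 4 ⊕ Fin 4 → F) = 8 := by
    rw [finrank_fintype_fun_eq_card, Fintype.card_sum, Fintype.card_fin]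
  intro A hA
  rcases hcu with ⟨c, hc, hneg⟩ | ⟨h3, -⟩
  · exact row_gen hp2 (isQuad_plus F 4) (k := 2) (by norm_num) (by rw [hfr]; norm_num) hc D
      (hscal_neg (isQuad_plus F 4) hneg) hA (le_of_index_three hp2 hp3 hA hD)
  · exact absurd h3 hp3

/-- `-1 ∉ Ω⁻_8(q)` -/
theorem scal_minus_three {p : ℕ} [Fact p.Prime] (hp2 : p ≠ 2) (F : Type) [Field F] [Finite F] [CharP F p] (a b : F)
    (hab : ∀ z₁ z₂ : F, z₁ ^ 2 + a * z₁ * z₂ + b * z₂ ^ 2 = 0 → z₁ = 0 ∧ z₂ = 0)
    (n : commutator (minusF F 3 a b hab).iso) (x : Fˣ)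
    (hx : ∀ v : (Fin 3 ⊕ Fin 3) ⊕ Fin 2 → F,
      ((n : (minusF F 3 a b hab).iso) : ((Fin 3 ⊕ Fin 3) ⊕ Fin 2 → F) ≃ₗ[F] ((Fin 3 ⊕ Fin 3) ⊕ Fin 2 → F)) v =
        (x : F) • v) : x = 1 := by
  classical
  have ho := odd_of_ne_two (p := p) (K := F) hp2
  have hidx := minus_idx_four F (p := p) ho a b hab 3
  have hmul := minus_idx_mul F a b hab (l := 3) le_rfl
  have hg : Nat.gcd 4 (Nat.card F ^ (3 + 1) + 1) = 2 := by
    have h4 : Nat.card F ^ 4 % 4 = 1 := by
      obtain ⟨t, ht⟩ := ho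
      have h5 : Nat.card F % 4 = 1 ∨ Nat.card F % 4 = 3 := by omega
      rw [Nat.pow_mod]
      rcases h5 with h5 | h5 <;> rw [h5]
    have h6 : (Nat.card F ^ (3 + 1) + 1) % 4 = 2 := by
      rw [show 3 + 1 = 4 from rfl, Nat.add_mod, h4]
    rw [Nat.gcd_rec, h6]
    rfl
  rw [hidx, hg] at hmul
  have hc1 : Nat.card (Subgroup.center (Omega F (quadFormMinus 3 F a b))) = 1 := by omega
  have hcen := Subgroup.eq_bot_of_card_eq _ hc1
  let e : isometryGroup F (quadFormMinus 3 F a b) ≃* (minusF F 3 a b hab).iso :=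
    isoQuad (minusF F 3 a b hab) (minus_hB F 3 a b hab)
  have hzO : e.symm (n : (minusF F 3 a b hab).iso) ∈ Omega F (quadFormMinus 3 F a b) := by
    have h1 : (commutator (minusF F 3 a b hab).iso).map e.symm.toMonoidHom =
        commutator (isometryGroup F (quadFormMinus 3 F a b)) := by
      rw [commutator_def, commutator_def, Subgroup.map_commutator]
      rw [Subgroup.map_top_of_surjective _ e.symm.surjective]
    have h3 : e.symm.toMonoidHom (n : (minusF F 3 a b hab).iso) ∈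
        (commutator (minusF F 3 a b hab).iso).map e.symm.toMonoidHom := ⟨n, n.2, rfl⟩
    rw [h1] at h3
    exact h3
  have hz : (⟨e.symm (n : (minusF F 3 a b hab).iso), hzO⟩ : Omega F (quadFormMinus 3 F a b)) ∈
      Subgroup.center (Omega F (quadFormMinus 3 F a b)) := by
    rw [Subgroup.mem_center_iff]
    intro w
    apply Subtype.ext
    apply e.injective
    change e ((w : isometryGroup F (quadFormMinus 3 F a b)) * e.symm (n : (minusF F 3 a b hab).iso)) =
      e (e.symm (n : (minusF F 3 a b hab).iso) * (w : isometryGroup F (quadFormMinus 3 F a b)))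
    rw [map_mul, map_mul, e.apply_symm_apply]
    apply Subtype.ext
    apply LinearEquiv.ext
    intro v
    rw [Subgroup.coe_mul, Subgroup.coe_mul, LinearEquiv.mul_apply, LinearEquiv.mul_apply, hx, hx, map_smul]
  rw [hcen, Subgroup.mem_bot] at hz
  have h7 : e.symm (n : (minusF F 3 a b hab).iso) = 1 := congrArg Subtype.val hz
  have h8 : (n : (minusF F 3 a b hab).iso) = 1 := by
    rw [← e.apply_symm_apply (n : (minusF F 3 a b hab).iso), h7, map_one]
  have h9 := hx (fun _ => 1)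
  rw [h8] at h9
  have h10 := congrFun h9 (Sum.inr 0)
  apply Units.ext
  rw [Pi.smul_apply, smul_eq_mul, mul_one] at h10
  exact h10.symm

/-- **`PΩ⁻_{2m}`**, `m ≥ 4` -/
theorem row_ominus {p : ℕ} [Fact p.Prime] (hp2 : p ≠ 2) (F : Type) [Field F] [Fintype F] [CharP F p]
    (hcu : ExCuTwo p F) (hcn : ExCuNeg p F) (m : ℕ) (a b : F) (hm : 4 ≤ m)
    (hab : ∀ z₁ z₂ : F, z₁ ^ 2 + a * z₁ * z₂ + b * z₂ ^ 2 = 0 → z₁ = 0 ∧ z₂ = 0) :
    OCRow p (POmega F (quadFormMinus (m - 1) F a b)) := by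
  classical
  have h2 : (2 : F) ≠ 0 := two_ne_zero_of_char (p := p) hp2
  obtain ⟨l, rfl⟩ : ∃ l, m = l + 1 := ⟨m - 1, by omega⟩
  rw [Nat.add_sub_cancel]
  obtain ⟨D, hD⟩ := semiQ_minus (K := F) (m := l) (by omega) hab
  have hfr : finrank F ((Fin l ⊕ Fin l) ⊕ Fin 2 → F) = 2 * l + 2 := by
    rw [finrank_fintype_fun_eq_card, Fintype.card_sum, Fintype.card_sum, Fintype.card_fin, Fintype.card_fin]
    omega
  intro A hA
  rcases hcn with ⟨c, hc, hneg⟩ | ⟨-, c, hc, hneg⟩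
  · exact row_gen hp2 (isQuad_minus F l a b hab) (k := 2) (by norm_num) (by rw [hfr]; omega) hc D
      (hscal_neg (isQuad_minus F l a b hab) hneg) hA (fun α _ => mem_autG.2 (hD α))
  · by_cases h4 : 4 ≤ l
    · exact row_gen hp2 (isQuad_minus F l a b hab) (k := 4) (by norm_num) (by rw [hfr]; omega) hc D
        (hscal_neg (isQuad_minus F l a b hab) hneg) hA (fun α _ => mem_autG.2 (hD α))
    · obtain rfl : l = 3 := by omega
      obtain ⟨c', hc'⟩ := hcu
      refine row_gen hp2 (isQuad_minus F 3 a b hab) (k := 2) (by norm_num) (by rw [hfr]; norm_num) hc' D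
        (fun n x hx => ?_) hA (fun α _ => mem_autG.2 (hD α))
      rw [scal_minus_three (p := p) hp2 F a b hab n x hx, map_one]

end Models

end Cfsg.Agent.H763.OC
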