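import Cfsg.Agent.CharactersDeep.AbelianQuotient

/-!
# The twist lemma (S4891, OC layer, T4)

`irr_of_twist` : `G` finite, `N` normal, `G / N` abelian, `χ` irreducible, `G` generated by `N` and elements at which `χ` does
not vanish: the restriction of `χ` to `N` is irreducible.
-/

set_option autoImplicit false

open Cfsg

namespace Cfsg.Agent.H763.OC

open Cfsg.Agent.Characters Cfsg.Agent.CharactersDeep.AbelianQuotient

/-- **the twist lemma** -/
theorem irr_of_twist {G : Type*} [Group G] [Finite G] (N : Subgroup G) [N.Normal]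
    (hab : ∀ x y : G, x * y * x⁻¹ * y⁻¹ ∈ N) {χ : G → ℂ} (hχ : IsIrrCharacter G χ) {T : Set G}
    (hT : ∀ t ∈ T, χ t ≠ 0) (hgen : Subgroup.closure ((N : Set G) ∪ T) = ⊤) :
    IsIrrCharacter N (fun n : N => χ n) := by
  classical
  let _ : Fintype G := Fintype.ofFinite G
  let _ : Fintype N := Fintype.ofFinite N
  obtain ⟨Λ, hΛ, -, h1, h2⟩ := exists_linear_dual N hab
  apply Core.isIrr_of_classInner_self (Core.isCharacter_comp N.subtype (Core.isIrr_isCharacter hχ))
  have h3 : Λ.filter (fun l => (fun g => (l g : ℂ)) * χ = χ) = {1} := by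
    ext l
    rw [Finset.mem_filter, Finset.mem_singleton]
    constructor
    · rintro ⟨hl, hl'⟩
      have h3 : (⊤ : Subgroup G) ≤ l.ker := by
        rw [← hgen, Subgroup.closure_le]
        rintro x (hx | hx)
        · exact MonoidHom.mem_ker.2 ((hΛ l).1 hl x hx)
        · have h4 := congrFun hl' x
          rw [Pi.mul_apply] at h4
          have h5 : (l x : ℂ) = 1 := mul_right_cancel₀ (hT x hx) (h4.trans (one_mul _).symm)
          exact MonoidHom.mem_ker.2 (Units.ext h5)
      refine MonoidHom.ext fun x => ?_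
      exact MonoidHom.mem_ker.1 (h3 (Subgroup.mem_top x))
    · rintro rfl
      refine ⟨(hΛ 1).2 fun n _ => rfl, ?_⟩
      ext g
      simp
  have h4 := classInner_restrict_self N hχ Λ h1 h2
  have h5 : (({1} : Finset (G →* ℂˣ)).card : ℂ) = 1 := by simp
  rw [← h3] at h5
  exact h4.trans h5

/-- the twist lemma for the commutator subgroup -/
theorem irr_commutator_of_twist {G : Type*} [Group G] [Finite G] {χ : G → ℂ} (hχ : IsIrrCharacter G χ) {T : Set G}
    (hT : ∀ t ∈ T, χ t ≠ 0) (hgen : Subgroup.closure T = ⊤) :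
    IsIrrCharacter (commutator G) (fun n : commutator G => χ n) := by
  refine irr_of_twist (commutator G) (fun x y => ?_) hχ hT ?_
  · exact Subgroup.commutator_mem_commutator (Subgroup.mem_top x) (Subgroup.mem_top y)
  · rw [eq_top_iff, ← hgen]
    exact Subgroup.closure_mono Set.subset_union_right

end Cfsg.Agent.H763.OC
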